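import Cfsg.Agent.Lib.Fusion.AlperinGroup
import Cfsg.Prelude.Def_QuasithinSetup
import Cfsg.Prelude.Def_TwoFusion

/-!
A subgroup containing the normalisers of the Alperin–Goldschmidt conjugation family controls fusion: its normal
2-subgroups are strongly closed in the Sylow 2-subgroup.
-/

set_option autoImplicit false
set_option linter.unusedSectionVars false

namespace Cfsg.Agent.QT1847

open Subgroup

variable {G : Type*} [Group G] [Finite G]

/-- The local subgroups of the conjugation theorem are members of the family. -/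
theorem mem_agConjFamily {T : Sylow 2 G} {D : Subgroup G} (hD : AlperinGroup.Local T D) (h1 : D ≠ ⊥) :
    D ∈ Cfsg.agConjFamily (T : Subgroup G) := by
  haveI : Fact (Nat.Prime 2) := ⟨Nat.prime_two⟩
  obtain ⟨hDT, hC, ⟨-, -, hcomm, -, hsup⟩, hrel⟩ := hD
  refine ⟨h1, hDT, ?_, hC, ?_, hsup⟩
  · have hp : IsPGroup 2 ((((T : Subgroup G) ⊓ normalizer (D : Set G))).subgroupOf (normalizer (D : Set G))) :=
      (T.2.to_le inf_le_left).comap_of_injective _ (normalizer (D : Set G)).subtype_injective
    exact ⟨hp.toSylow hrel, rfl⟩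
  · rw [commutator_eq_bot_iff_le_centralizer]
    exact fun a ha => mem_centralizer_iff.2 fun d hd => (hcomm a ha d hd).symm

/-- A subgroup normalised by the normalisers of the family is closed under the conjugation chains. -/
theorem chain_mem {T : Sylow 2 G} {U : Subgroup G}
    (h : ∀ D ∈ Cfsg.agConjFamily (T : Subgroup G), normalizer (D : Set G) ≤ normalizer (U : Set G))
    {A : Set G} {g : G} (hc : AlperinGroup.Chain T A g) :
    ∀ a ∈ A, a ∈ U → g⁻¹ * a * g ∈ U := by
  induction hc with
  | @nil A c hc =>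
    intro a ha hU
    rw [mul_assoc, mem_centralizer_iff.1 hc a ha, inv_mul_cancel_left]
    exact hU
  | @cons A x g D hD hx hA _ ih =>
    intro a ha hU
    rw [show (x * g)⁻¹ * a * (x * g) = g⁻¹ * (x⁻¹ * a * x) * g by group]
    refine ih _ ⟨a, ha, rfl⟩ ?_
    rcases eq_or_ne a 1 with rfl | ha1
    · rw [mul_one, inv_mul_cancel]
      exact one_mem _
    · refine (mem_normalizer_iff''.1 (h D (mem_agConjFamily hD ?_) hx) a).1 hU
      intro hb
      have h0 := hA ha
      rw [hb] at h0
      exact ha1 (mem_bot.1 h0)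

/-- The strongly closed subgroups. -/
theorem isStronglyClosed {T : Sylow 2 G} {U : Subgroup G} (hUT : U ≤ (T : Subgroup G))
    (h : ∀ D ∈ Cfsg.agConjFamily (T : Subgroup G), normalizer (D : Set G) ≤ normalizer (U : Set G)) :
    Cfsg.IsStronglyClosed U (T : Subgroup G) := by
  haveI : Fact (Nat.Prime 2) := ⟨Nat.prime_two⟩
  refine ⟨hUT, fun x hx g hg => ?_⟩
  have hc := AlperinGroup.exists_chain T (A := {x}) (g := g⁻¹) (Set.singleton_subset_iff.2 (hUT hx)) (by
    rintro _ ⟨a, rfl, rfl⟩
    rw [inv_inv]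
    exact hg)
  have h1 := chain_mem h hc x rfl hx
  rwa [inv_inv] at h1

/-- A 2-subgroup normalised by a subgroup containing a Sylow 2-subgroup lies in it. -/
theorem le_sylow {T : Sylow 2 G} {M U : Subgroup G} (hTM : (T : Subgroup G) ≤ M)
    (hN : M ≤ normalizer (U : Set G)) (hU : IsPGroup 2 U) : U ≤ (T : Subgroup G) := by
  have hP : IsPGroup 2 (U ⊔ (T : Subgroup G) : Subgroup G) :=
    hU.to_sup_of_normal_left' T.2 (hTM.trans hN)
  exact le_sup_left.trans (T.3 hP le_sup_right).le

end Cfsg.Agent.QT1847
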