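import Cfsg.Agent.Lib.SubThree.PSLFacts
import Cfsg.Agent.Lib.Classical.DicksonProper
import Cfsg.Agent.Lib.Walter4.Ind
import Cfsg.Agent.Lib.Transfer.Basic
import Cfsg.Prelude.Def_ClassificationK
import Mathlib.FieldTheory.Finite.GaloisField
import Cfsg.Agent.S0494
import Cfsg.Agent.Lib.Fusion.Saturated

/-!
Groups of even characteristic with abelian Sylow 2-subgroups: the centralisers of the involutions, and the
consequences for the simple groups with abelian Sylow 2-subgroups.
-/

set_option autoImplicit false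
set_option linter.style.haveILetI false
set_option linter.unusedSectionVars false

namespace Cfsg.Agent.QT1847

open Subgroup

universe u

variable {G : Type u} [Group G] [Finite G]

theorem isTwoLocal_centralizer {z : G} (hz : orderOf z = 2) :
    Cfsg.IsTwoLocal (centralizer ({z} : Set G)) := by
  have hcard : Nat.card (zpowers z) = 2 := by rw [Nat.card_zpowers, hz]
  refine ⟨zpowers z, IsPGroup.of_card (n := 1) (by rw [hcard, pow_one]), ?_, ?_⟩
  · intro h
    rw [h, card_bot] at hcard
    omega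
  · have hz1 : z ≠ 1 := fun h => by simp [h] at hz
    have hmem : ∀ y ∈ zpowers z, y = 1 ∨ y = z := by
      intro y hy
      obtain ⟨k, rfl⟩ := mem_zpowers_iff.1 hy
      have h2 : z ^ k = z ^ (k % 2) := by
        have := zpow_mod_orderOf z k
        rw [hz] at this
        exact this.symm
      rcases Int.emod_two_eq_zero_or_one k with e | e <;> rw [h2, e] <;> simp
    ext x
    constructor
    · intro hx
      have hx' : x * z = z * x := mem_centralizer_singleton_iff.1 hx
      refine FusionSys.mem_normalizer_of_conj_mem_finite fun y hy => ?_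
      rcases hmem y hy with h | h <;> rw [h]
      · simp
      · rw [hx', mul_inv_cancel_right]
        exact mem_zpowers z
    · intro hx
      refine mem_centralizer_singleton_iff.2 ?_
      rcases hmem _ ((mem_normalizer_iff.1 hx z).1 (mem_zpowers z)) with e | e
      · exact absurd (conj_eq_one_iff.1 e) hz1
      · exact mul_inv_eq_iff_eq_mul.1 e

/-- The Sylow subgroup is normal and self-centralising in the centraliser of each of its involutions. -/
theorem cent_facts (hev : Cfsg.IsOfEvenCharacteristic G) (T : Sylow 2 G)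
    (hab : IsMulCommutative (T : Subgroup G)) {z : G} (hzT : z ∈ (T : Subgroup G)) (hz : orderOf z = 2) :
    centralizer ({z} : Set G) ≤ normalizer ((T : Subgroup G) : Set G) ∧
      ∀ c ∈ centralizer ({z} : Set G), c ∈ centralizer ((T : Subgroup G) : Set G) → c ∈ (T : Subgroup G) := by
  haveI : Fact (Nat.Prime 2) := ⟨Nat.prime_two⟩
  set C := centralizer ({z} : Set G) with hC
  have hcomm : ∀ x ∈ (T : Subgroup G), ∀ y ∈ (T : Subgroup G), x * y = y * x := fun x hx y hy =>
    congrArg Subtype.val (hab.is_comm.comm ⟨x, hx⟩ ⟨y, hy⟩)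
  have hTC : (T : Subgroup G) ≤ C := fun t ht => mem_centralizer_singleton_iff.2 (hcomm t ht z hzT)
  have hchar : Cfsg.IsOfCharacteristicTwo C := hev C (isTwoLocal_centralizer hz) ⟨T, hTC⟩
  set O := Cfsg.pCore 2 C with hO
  haveI hOn : O.Normal := Subgroup.sSup_normal _ fun K hK => hK.1
  have h1 : O ≤ (T : Subgroup G).subgroupOf C := PBasic.pCore_le_sylow (T.subtype hTC)
  have h2 : (T : Subgroup G).subgroupOf C ≤ O := fun t ht => hchar (mem_centralizer_iff.2 fun o ho =>
    Subtype.ext (hcomm _ (mem_subgroupOf.1 (h1 ho)) _ (mem_subgroupOf.1 ht)))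
  have he : O = (T : Subgroup G).subgroupOf C := le_antisymm h1 h2
  refine ⟨fun c hc => FusionSys.mem_normalizer_of_conj_mem_finite fun t ht => ?_, fun c hc hcT => ?_⟩
  · have := hOn.conj_mem (⟨t, hTC ht⟩ : C) (he ▸ mem_subgroupOf.2 ht) ⟨c, hc⟩
    rw [he] at this
    exact mem_subgroupOf.1 this
  · have hc2 : (⟨c, hc⟩ : C) ∈ O := hchar (mem_centralizer_iff.2 fun o ho =>
      Subtype.ext (mem_centralizer_iff.1 hcT _ (mem_subgroupOf.1 (h1 ho))))
    exact mem_subgroupOf.1 (h1 hc2)

/-- A centraliser with Sylow 2-subgroup of order 4 has order 4. -/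
theorem card_cent_eq_four (hev : Cfsg.IsOfEvenCharacteristic G) (T : Sylow 2 G)
    (hab : IsMulCommutative (T : Subgroup G)) {z : G} (hzT : z ∈ (T : Subgroup G)) (hz : orderOf z = 2)
    (h4 : 4 ∣ Nat.card (centralizer ({z} : Set G))) (h8 : ¬ 8 ∣ Nat.card (centralizer ({z} : Set G))) :
    Nat.card (centralizer ({z} : Set G)) = 4 := by
  haveI : Fact (Nat.Prime 2) := ⟨Nat.prime_two⟩
  set C := centralizer ({z} : Set G) with hC
  obtain ⟨hN, hS⟩ := cent_facts hev T hab hzT hz
  have hcomm : ∀ x ∈ (T : Subgroup G), ∀ y ∈ (T : Subgroup G), x * y = y * x := fun x hx y hy =>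
    congrArg Subtype.val (hab.is_comm.comm ⟨x, hx⟩ ⟨y, hy⟩)
  have hTC : (T : Subgroup G) ≤ C := fun t ht => mem_centralizer_singleton_iff.2 (hcomm t ht z hzT)
  have hT4 : Nat.card (T : Subgroup G) = 4 := by
    have h1 : Nat.card (T.subtype hTC) = Nat.card (T : Subgroup G) :=
      Nat.card_congr (subgroupOfEquivOfLe hTC).toEquiv
    have h2 := (T.subtype hTC).card_eq_multiplicity
    have hv : (Nat.card C).factorization 2 = 2 := by
      have := (Nat.prime_two.pow_dvd_iff_le_factorization (k := 2) Nat.card_pos.ne').1 (by simpa using h4)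
      have h3 : ¬ 3 ≤ (Nat.card C).factorization 2 := fun h =>
        h8 (by simpa using (Nat.prime_two.pow_dvd_iff_le_factorization (k := 3) Nat.card_pos.ne').2 h)
      omega
    rw [← h1, h2, hv]
    norm_num
  set H := (zpowers z).subgroupOf (T : Subgroup G) with hH
  have hHi : H.index = 2 := by
    have h1 := H.card_mul_index
    have h2 : Nat.card H = 2 := by
      rw [hH, Nat.card_congr (subgroupOfEquivOfLe (zpowers_le.2 hzT)).toEquiv, Nat.card_zpowers, hz]
    rw [h2, hT4] at h1
    omega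
  have hfix : ∀ c ∈ C, ∀ h ∈ zpowers z, c * h * c⁻¹ = h := by
    intro c hc h hh
    obtain ⟨k, rfl⟩ := mem_zpowers_iff.1 hh
    rw [((show Commute c z from mem_centralizer_singleton_iff.1 hc).zpow_right k).eq, mul_inv_cancel_right]
  have hsq : ∀ h ∈ zpowers z, h * h = 1 := by
    intro h hh
    obtain ⟨k, rfl⟩ := mem_zpowers_iff.1 hh
    rw [← (Commute.refl z).mul_zpow, ← pow_two, ← hz, pow_orderOf_eq_one, one_zpow]
  have hyy : ∀ y ∈ C, y * y ∈ (T : Subgroup G) := by
    intro y hy
    refine hS _ (mul_mem hy hy) (mem_centralizer_iff.2 fun t ht => ?_)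
    have e : y * y * t * (y * y)⁻¹ = t := by
      have hs : y * t * y⁻¹ ∈ (T : Subgroup G) := (mem_normalizer_iff.1 (hN hy) t).1 ht
      by_cases htH : t ∈ zpowers z
      · exact hfix _ (mul_mem hy hy) t htH
      · have hsH : y * t * y⁻¹ ∉ zpowers z := fun h => htH (by
          have := hfix _ (inv_mem hy) _ h
          rw [inv_inv, show y⁻¹ * (y * t * y⁻¹) * y = t by group] at this
          exact this ▸ h)
        have hm : t⁻¹ * (y * t * y⁻¹) ∈ zpowers z := by
          have := (mul_mem_iff_of_index_two hHi (a := (⟨t, ht⟩⁻¹ : (T : Subgroup G)))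
            (b := ⟨_, hs⟩)).2 (by
              rw [inv_mem_iff, hH, mem_subgroupOf, mem_subgroupOf]
              exact iff_of_false htH hsH)
          rw [hH, mem_subgroupOf] at this
          exact this
        set h := t⁻¹ * (y * t * y⁻¹) with hdef
        have e1 : y * t * y⁻¹ = t * h := by rw [hdef]; group
        calc y * y * t * (y * y)⁻¹ = y * (y * t * y⁻¹) * y⁻¹ := by group
          _ = y * (t * h) * y⁻¹ := by rw [e1]
          _ = (y * t * y⁻¹) * (y * h * y⁻¹) := by group
          _ = t := by rw [e1, hfix y hy h hm, mul_assoc, hsq h hm, mul_one]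
    calc t * (y * y) = (y * y * t * (y * y)⁻¹) * (y * y) := by rw [e]
      _ = y * y * t := by group
  have hp : IsPGroup 2 C := fun x => by
    obtain ⟨k, hk⟩ := T.2 ⟨_, hyy x x.2⟩
    refine ⟨k + 1, Subtype.ext ?_⟩
    have hk' := congrArg Subtype.val hk
    simp only [SubmonoidClass.coe_pow, OneMemClass.coe_one] at hk'
    rw [SubmonoidClass.coe_pow, OneMemClass.coe_one, pow_succ', pow_mul, pow_two, hk']
  have hCT : C = (T : Subgroup G) := T.3 hp hTC
  rw [hCT, hT4]

/-- `PSL₂(q)`, `q ≡ 3, 5 (mod 8)`, of even characteristic is `PSL₂(5)`. -/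
theorem card_field_eq_five [IsSimpleGroup G] (hev : Cfsg.IsOfEvenCharacteristic G) (T : Sylow 2 G)
    (hab : IsMulCommutative (T : Subgroup G)) {F : Type} [Field F] [Fintype F]
    (e : G ≃* Matrix.ProjectiveSpecialLinearGroup (Fin 2) F)
    (h8 : Fintype.card F % 8 = 3 ∨ Fintype.card F % 8 = 5) (h5 : 5 ≤ Fintype.card F) {z : G}
    (hzT : z ∈ (T : Subgroup G)) (hz : orderOf z = 2) : Fintype.card F = 5 := by
  have hodd : Odd (Fintype.card F) := Nat.odd_iff.2 (by omega)
  have hz2 : z * z = 1 := by rw [← pow_two, ← hz, pow_orderOf_eq_one]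
  have hz1 : e z ≠ 1 := by
    rw [Ne, e.map_eq_one_iff]
    intro h
    simp [h] at hz
  obtain ⟨h4, hc⟩ := SubThree.card_cent_invol hodd (x := e z) (by rw [← map_mul, hz2, map_one]) hz1
  have hcard : Nat.card (centralizer ({e z} : Set (Matrix.ProjectiveSpecialLinearGroup (Fin 2) F))) =
      Nat.card (centralizer ({z} : Set G)) := by
    refine (Nat.card_congr (e.toEquiv.subtypeEquiv fun x => ?_)).symm
    rw [mem_centralizer_singleton_iff, mem_centralizer_singleton_iff]
    show x * z = z * x ↔ e x * e z = e z * e x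
    rw [← map_mul, ← map_mul, e.injective.eq_iff]
  rw [hcard] at h4 hc
  have hn8 : ¬ 8 ∣ Nat.card (centralizer ({z} : Set G)) := by omega
  have := card_cent_eq_four hev T hab hzT hz h4 hn8
  omega

theorem card_psl_five {F : Type} [Field F] [Fintype F] (hF : Fintype.card F = 5) :
    Nat.card (Matrix.ProjectiveSpecialLinearGroup (Fin 2) F) = 60 := by
  have h := Dickson.gcd_mul_card_psl (K := F)
  rw [Nat.card_eq_fintype_card (α := F), hF] at h
  norm_num at h
  omega

/-- `PSL₂(5)` is `PSL₂(4)`. -/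
theorem psl_five_eq_four [IsSimpleGroup G] {F : Type} [Field F] [Fintype F] (hF : Fintype.card F = 5)
    (e : G ≃* Matrix.ProjectiveSpecialLinearGroup (Fin 2) F) :
    ∃ (K : Type) (_ : Field K) (_ : Fintype K), CharP K 2 ∧ 4 ≤ Fintype.card K ∧
      Nonempty (G ≃* Matrix.ProjectiveSpecialLinearGroup (Fin 2) K) := by
  haveI : Fact (Nat.Prime 2) := ⟨Nat.prime_two⟩
  haveI : Fintype (GaloisField 2 2) := Fintype.ofFinite _
  have hK : Fintype.card (GaloisField 2 2) = 4 := by
    rw [← Nat.card_eq_fintype_card, GaloisField.card 2 2 (by norm_num)]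
    norm_num
  haveI := Matrix.ProjectiveSpecialLinearGroup.rank_two_simple (F := GaloisField 2 2)
    (by rw [Nat.card_eq_fintype_card, hK])
  have c4 := Dickson.gcd_mul_card_psl (K := GaloisField 2 2)
  rw [Nat.card_eq_fintype_card (α := GaloisField 2 2), hK] at c4
  norm_num at c4
  obtain ⟨a⟩ := S0494.result (G := G) (by rw [Nat.card_congr e.toEquiv, card_psl_five hF])
  obtain ⟨b⟩ := S0494.result (G := Matrix.ProjectiveSpecialLinearGroup (Fin 2) (GaloisField 2 2)) (by omega)
  exact ⟨GaloisField 2 2, inferInstance, inferInstance, inferInstance, by omega, ⟨a.trans b.symm⟩⟩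

/-- No group of Ree–Janko type has even characteristic. -/
theorem not_rjType (hev : Cfsg.IsOfEvenCharacteristic G)
    (habel : ∀ P : Sylow 2 G, IsMulCommutative (P : Subgroup G)) : ¬ Walter4.RJType G := by
  rintro ⟨-, S, hE, hL, -⟩
  haveI : Fact (Nat.Prime 2) := ⟨Nat.prime_two⟩
  obtain ⟨a, haS, ha1⟩ : ∃ a ∈ (S : Subgroup G), a ≠ 1 := by
    refine (Subgroup.bot_or_exists_ne_one _).resolve_left fun h => ?_
    have := hE.card
    rw [h, card_bot] at this
    omega
  have ha2 : orderOf a = 2 := orderOf_eq_prime (by rw [pow_two]; exact hE.sq a haS) ha1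
  obtain ⟨hN, -⟩ := cent_facts hev S (habel S) haS ha2
  obtain ⟨L, F, _, _, φ, hodd, h3, hLC, -, hφ, -, -, -⟩ := hL a haS ha1
  haveI : IsSimpleGroup (Matrix.ProjectiveSpecialLinearGroup (Fin 2) F) :=
    Matrix.ProjectiveSpecialLinearGroup.rank_two_simple (by rw [Nat.card_eq_fintype_card]; omega)
  set N := (S : Subgroup G).subgroupOf L with hNdef
  haveI : N.Normal := normal_subgroupOf_of_le_normalizer (hLC.trans hN)
  -- the part of `S` in `L` dies in the quotient
  have hdie : ∀ x ∈ N, φ x = 1 := by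
    have hn : (N.map φ).Normal := Subgroup.Normal.map inferInstance φ hφ
    rcases hn.eq_bot_or_eq_top with e | e
    · exact fun x hx => mem_bot.1 (e ▸ mem_map_of_mem φ hx)
    · exfalso
      have hc := SubThree.center_trivial (F := F) h3
      obtain ⟨g, hg⟩ := exists_ne (1 : Matrix.ProjectiveSpecialLinearGroup (Fin 2) F)
      refine hg (mem_bot.1 (hc ▸ mem_center_iff.2 fun w => ?_))
      obtain ⟨x, hx, rfl⟩ := mem_map.1 (e ▸ mem_top g : g ∈ N.map φ)
      obtain ⟨y, hy, rfl⟩ := mem_map.1 (e ▸ mem_top w : w ∈ N.map φ)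
      rw [← map_mul, ← map_mul]
      congr 1
      have hh := congrArg Subtype.val
        ((habel S).is_comm.comm ⟨(y : G), mem_subgroupOf.1 hy⟩ ⟨(x : G), mem_subgroupOf.1 hx⟩)
      exact Subtype.ext hh
  -- but an involution of the quotient lifts to a 2-element
  obtain ⟨w, hw⟩ : ∃ w : Matrix.ProjectiveSpecialLinearGroup (Fin 2) F, orderOf w = 2 := by
    refine exists_prime_orderOf_dvd_card' 2 ?_
    have h := Dickson.gcd_mul_card_psl (K := F)
    rw [Nat.card_eq_fintype_card (α := F)] at h
    obtain ⟨r, hr⟩ := hodd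
    have hg : Nat.gcd 2 (Fintype.card F - 1) = 2 := Nat.gcd_eq_left ⟨r, by omega⟩
    rw [hg, hr, show (2 * r + 1) ^ 2 - 1 = 4 * (r * r + r) by
      rw [show (2 * r + 1) ^ 2 = 4 * (r * r + r) + 1 by ring]; omega] at h
    have h2 : 2 * Nat.card (Matrix.ProjectiveSpecialLinearGroup (Fin 2) F) =
        2 * (2 * ((2 * r + 1) * (r * r + r))) := by rw [h]; ring
    exact ⟨_, Nat.eq_of_mul_eq_mul_left two_pos h2⟩
  obtain ⟨l, rfl⟩ := hφ w
  obtain ⟨k, m, hm, hkm⟩ := Nat.exists_eq_two_pow_mul_odd (orderOf_pos l).ne'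
  have hpow : IsPGroup 2 (zpowers ((l : G) ^ m)) := by
    refine IsPGroup.of_card (n := k) ?_
    rw [Nat.card_zpowers, orderOf_pow_of_dvd hm.pos.ne' (by
      rw [Subgroup.orderOf_coe, hkm]; exact dvd_mul_left m _), Subgroup.orderOf_coe, hkm,
      Nat.mul_div_left _ hm.pos]
  have hmS : (l : G) ^ m ∈ (S : Subgroup G) := by
    have hP : IsPGroup 2 (zpowers ((l : G) ^ m) ⊔ (S : Subgroup G) : Subgroup G) :=
      hpow.to_sup_of_normal_right' S.2 (zpowers_le.2 (hN (hLC (pow_mem l.2 m))))
    exact (le_sup_left.trans (S.3 hP le_sup_right).le) (mem_zpowers _)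
  have h1 := hdie (l ^ m) (mem_subgroupOf.2 (by simpa using hmS))
  obtain ⟨j, rfl⟩ := hm
  have h2 := pow_orderOf_eq_one (φ l)
  rw [hw] at h2
  rw [map_pow, pow_succ, pow_mul, h2, one_pow, one_mul] at h1
  rw [h1, orderOf_one] at hw
  omega

end Cfsg.Agent.QT1847
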