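import Cfsg.Agent.Lib.Quasithin1847.Control
import Cfsg.Agent.Lib.Quasithin1847.EvenAbelian
import Cfsg.Agent.Lib.GoldCons.Basic
import Cfsg.Agent.Lib.SEMain.Proof
import Cfsg.Prelude.Def_Quasithin

/-!
The conjugation family in a uniqueness local (S1847), from the theorem on strongly closed abelian subgroups and
the list of the simple groups with abelian Sylow 2-subgroups.
-/

set_option autoImplicit false
set_option linter.style.haveILetI false
set_option linter.unusedSectionVars false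

namespace Cfsg.Agent.QT1847

open Subgroup

universe u

variable {G : Type u} [Group G] [Finite G]

theorem charP_two {F : Type} [Field F] [Fintype F] {n : ℕ} (hn : 1 ≤ n) (h : Fintype.card F = 2 ^ n) :
    CharP F 2 := by
  obtain ⟨p, hp⟩ := CharP.exists F
  obtain ⟨k, hpp, hk⟩ := FiniteField.card F p
  have h2 : 2 ∣ p ^ (k : ℕ) := by
    rw [← hk, h]
    exact dvd_pow_self 2 (by omega)
  obtain rfl := (Nat.prime_dvd_prime_iff_eq Nat.prime_two hpp).1 (Nat.prime_two.dvd_of_dvd_pow h2)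
  exact hp

theorem isBenderGroup_of_isBender (h : SEBender.IsBender G) : Cfsg.IsBenderGroup G := by
  rcases h with ⟨F, i1, i2, ⟨n, hn, hF⟩, he⟩ | h | ⟨F, i1, i2, n, hn, hF, he⟩
  · refine Or.inl ⟨F, i1, i2, charP_two (by omega) hF, ?_, he⟩
    have := Nat.pow_le_pow_right (show 0 < 2 by norm_num) hn
    omega
  · exact Or.inr (Or.inr h)
  · exact Or.inr (Or.inl ⟨F, i1, i2, n, hn, hF, he⟩)

/-- The abelian case: even characteristic leaves `PSL₂(2ⁿ)`. -/
theorem isBenderGroup_of_good [IsSimpleGroup G] (hev : Cfsg.IsOfEvenCharacteristic G)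
    (habel : ∀ P : Sylow 2 G, IsMulCommutative (P : Subgroup G)) (T : Sylow 2 G)
    (hT : (T : Subgroup G) ≠ ⊥) (h : Walter4.Good G) : Cfsg.IsBenderGroup G := by
  haveI : Fact (Nat.Prime 2) := ⟨Nat.prime_two⟩
  rcases h with ⟨F, i1, i2, hq, ⟨e⟩⟩ | h
  · rcases hq with ⟨h8, h5⟩ | ⟨n, hn, hF⟩
    · obtain ⟨k, hk1, hk⟩ : ∃ k, 1 ≤ k ∧ Nat.card (T : Subgroup G) = 2 ^ k := by
        obtain ⟨k, hk⟩ := IsPGroup.iff_card.1 T.2
        refine ⟨k, ?_, hk⟩
        by_contra h0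
        exact hT (eq_bot_of_card_eq _ (by rw [hk, show k = 0 by omega, pow_zero]))
      obtain ⟨z, hz⟩ := exists_prime_orderOf_dvd_card' (G := (T : Subgroup G)) 2
        (hk ▸ dvd_pow_self 2 (by omega))
      rw [← Subgroup.orderOf_coe] at hz
      exact Or.inl (psl_five_eq_four (card_field_eq_five hev T (habel T) e h8 h5 z.2 hz) e)
    · refine Or.inl ⟨F, i1, i2, charP_two (by omega) hF, ?_, ⟨e⟩⟩
      have := Nat.pow_le_pow_right (show 0 < 2 by norm_num) hn
      omega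
  · exact absurd h (not_rjType hev habel)

theorem main (hA : GoldCons.ClosedStmt.{u}) (hW : GoldCons.AbelianStmt.{u}) [IsSimpleGroup G]
    (hG : ¬ IsMulCommutative G) (hQ : Cfsg.IsQTKE G) (T : Sylow 2 G) (M : Subgroup G)
    (hM : Cfsg.maxTwoLocalsContaining (T : Subgroup G) = {M})
    (h : ∀ D ∈ Cfsg.agConjFamily (T : Subgroup G), Subgroup.normalizer (D : Set G) ≤ M) :
    (∀ U : Subgroup G, U ≤ M → M ≤ Subgroup.normalizer (U : Set G) → IsPGroup 2 ↥U →
        Cfsg.IsStronglyClosed U (T : Subgroup G)) ∧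
      Cfsg.IsBenderGroup G := by
  haveI : Fact (Nat.Prime 2) := ⟨Nat.prime_two⟩
  obtain ⟨⟨⟨Q, hQp, hQ1, rfl⟩, -⟩, hTM⟩ : M ∈ Cfsg.maxTwoLocalsContaining (T : Subgroup G) :=
    hM ▸ Set.mem_singleton M
  have hclosed : ∀ U : Subgroup G, normalizer (Q : Set G) ≤ normalizer (U : Set G) → IsPGroup 2 ↥U →
      Cfsg.IsStronglyClosed U (T : Subgroup G) := fun U hN hU =>
    isStronglyClosed (le_sylow hTM hN hU) fun D hD => (h D hD).trans hN
  refine ⟨fun U _ hN hU => hclosed U hN hU, ?_⟩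
  -- the centre of a normal 2-subgroup
  haveI : Nontrivial Q := (Subgroup.nontrivial_iff_ne_bot Q).2 hQ1
  haveI := hQp.center_nontrivial
  set Z : Subgroup G := (center Q).map Q.subtype with hZ
  have hmemZ : ∀ x, x ∈ Z ↔ x ∈ Q ∧ ∀ y ∈ Q, y * x = x * y := by
    intro x
    constructor
    · rintro ⟨w, hw, rfl⟩
      exact ⟨w.2, fun y hy => congrArg Subtype.val (mem_center_iff.1 hw ⟨y, hy⟩)⟩
    · rintro ⟨hx, hc⟩
      exact ⟨⟨x, hx⟩, mem_center_iff.2 fun y => Subtype.ext (hc y y.2), rfl⟩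
  have hZ1 : Z ≠ ⊥ := by
    rw [hZ, Ne, map_eq_bot_iff_of_injective _ Q.subtype_injective]
    exact (Subgroup.nontrivial_iff_ne_bot _).1 inferInstance
  have hZc : IsMulCommutative Z :=
    ⟨⟨fun a b => Subtype.ext (((hmemZ _).1 b.2).2 a ((hmemZ _).1 a.2).1)⟩⟩
  have hNZ : normalizer (Q : Set G) ≤ normalizer (Z : Set G) := by
    intro g hg
    refine FusionSys.mem_normalizer_of_conj_mem_finite fun x hx => ?_
    obtain ⟨hxQ, hxc⟩ := (hmemZ x).1 hx
    refine (hmemZ _).2 ⟨(mem_normalizer_iff.1 hg x).1 hxQ, fun y hy => ?_⟩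
    have hy' : g⁻¹ * y * g ∈ Q := (mem_normalizer_iff''.1 hg y).1 hy
    calc y * (g * x * g⁻¹) = g * (g⁻¹ * y * g * x) * g⁻¹ := by group
      _ = g * (x * (g⁻¹ * y * g)) * g⁻¹ := by rw [hxc _ hy']
      _ = g * x * g⁻¹ * y := by group
  have hZp : IsPGroup 2 Z := hQp.to_le (map_subtype_le _)
  have hsc := hclosed Z hNZ hZp
  have hT1 : (T : Subgroup G) ≠ ⊥ := fun hb => hZ1 (le_bot_iff.1 (hb ▸ hsc.1))
  rcases hA G inferInstance T Z hZ1 hZc hsc with hab | ⟨H, hH⟩
  · have habel : ∀ P : Sylow 2 G, IsMulCommutative (P : Subgroup G) := fun P => by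
      refine ⟨⟨fun a b => (T.equiv P).symm.injective ?_⟩⟩
      rw [map_mul, map_mul]
      exact hab.is_comm.comm _ _
    exact isBenderGroup_of_good hQ.2.2 habel T hT1 (hW G inferInstance hG habel)
  · exact isBenderGroup_of_isBender (SEMain.bender_of_simple SEMain.stmt hH)

end Cfsg.Agent.QT1847
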